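import Groth.Agent.Crv77.RR
import Groth.Agent.Crv77.GeomConn
import Groth.Agent.S18385
import Groth.Agent.S1522
import Groth.Agent.Cube7.FibreSections

/-!
Vanishing of the first cohomology on the fibres of a smooth proper relative curve.
-/

set_option autoImplicit false
set_option maxSynthPendingDepth 6
set_option linter.style.haveILetI false
set_option backward.isDefEq.respectTransparency.types false

noncomputable section

universe u

open CategoryTheory Limits AlgebraicGeometry

namespace Groth.Agent.RelCurve7

theorem h1_vanish (k : Type u) [Field k] (X : Scheme.{u}) [X.Over (Spec (CommRingCat.of k))]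
    [IsProper (X ↘ Spec (CommRingCat.of k))] [Smooth (X ↘ Spec (CommRingCat.of k))]
    [GeometricallyConnected (X ↘ Spec (CommRingCat.of k))] (hdim : topologicalKrullDim X = 1)
    {L : X.Modules} (hL : PicF.IsInvertible L)
    (hdeg : 2 * (Module.finrank k (Coh.HH X (Coh.structureModule X) 1) : ℤ) - 2 <
      ((Module.finrank k (Coh.HH X L 0) : ℤ) - Module.finrank k (Coh.HH X L 1)) -
        (1 - (Module.finrank k (Coh.HH X (Coh.structureModule X) 1) : ℤ))) :
    Subsingleton (Coh.HH X L 1) := by
  haveI := Crv77.isNoetherian_of_proper k X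
  haveI := S18385.geometricallyIntegral_field (X ↘ Spec (CommRingCat.of k))
  haveI : IsIntegral X := GeometricallyIntegral.isIntegral_of_subsingleton (X ↘ Spec (CommRingCat.of k))
  have hX := Crv77.curveCoh_of_proper k X hdim.le
  have h0 := Crv77.finrank_h0_of_connected k X
  refine hX.h1_eq_zero_of_deg_gt hdim h0 hL ?_
  rw [Curv2.deg, hX.euler_eq (Crv77.isCoh_of_isInvertible hL), hX.euler_eq Crv77.isCoh_structureModule]
  simp only [Curv2.genus, Crv77.h, h0, Nat.cast_one, one_mul]
  omega

theorem subsingleton_fiberH_one {C S : Scheme.{u}} (f : C ⟶ S) [Smooth f] [IsProper f] [GeometricallyConnected f]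
    (s : S) (hdim : topologicalKrullDim ↥(f.fiber s) = 1) (L : C.Modules) (hL : PicF.IsInvertible L)
    (hdeg : ((CohIII.fiberRank f L 0 s : ℤ) - CohIII.fiberRank f L 1 s) -
        (1 - (CohIII.fiberRank f (Coh.structureModule C) 1 s : ℤ)) >
      2 * (CohIII.fiberRank f (Coh.structureModule C) 1 s : ℤ) - 2) :
    Subsingleton (CohIII.fiberH f L s 1) := by
  letI : (f.fiber s).Over (Spec (CommRingCat.of (S.residueField s))) := ⟨f.fiberToSpecResidueField s⟩
  haveI : IsProper ((f.fiber s) ↘ Spec (CommRingCat.of (S.residueField s))) :=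
    inferInstanceAs (IsProper (pullback.snd f (S.fromSpecResidueField s)))
  haveI : Smooth ((f.fiber s) ↘ Spec (CommRingCat.of (S.residueField s))) :=
    MorphismProperty.pullback_snd (P := @Smooth) f (S.fromSpecResidueField s) ‹_›
  haveI : GeometricallyConnected ((f.fiber s) ↘ Spec (CommRingCat.of (S.residueField s))) :=
    inferInstanceAs (GeometricallyConnected (pullback.snd f (S.fromSpecResidueField s)))
  have hO : CohIII.fiberRank f (Coh.structureModule C) 1 s =
      Module.finrank (S.residueField s) (Coh.HH (f.fiber s) (Coh.structureModule (f.fiber s)) 1) :=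
    (Crv77.hEquiv (S.residueField s) (PicLoc.pullbackStructureIso (f.fiberι s)) 1).finrank_eq
  rw [hO] at hdeg
  exact h1_vanish (S.residueField s) (f.fiber s) hdim (Amp73.isInvertible_pullback _ hL) hdeg

end Groth.Agent.RelCurve7
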